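import Cfsg.Agent.H535.K4.ONFam
import Cfsg.Agent.H210.On7.Loc
import Cfsg.Agent.H210.ON3.Cent
import Cfsg.Agent.H492.FactsON
import Cfsg.Agent.H497.S8.SolvEng
import Cfsg.Agent.H348.PPD.Dich
import Cfsg.Agent.H424.DegTools
import Cfsg.Agent.H55.OutGen
import Cfsg.Agent.S2078

/-!
# S4908, the O'Nan group: a superset of the degrees, known degrees, SOLV (helper393)

* `mem_adm` : the degrees of `O'N` are in the list `Adm` (the sieve of helper535);
* `mem_auto` : the degrees of `Aut O'N` are in `Adm2`;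
* `solv` : no solvable group has the degrees of `O'N` or of `O'N.2`.
-/

set_option autoImplicit false
set_option linter.unusedSectionVars false

open Cfsg Subgroup

namespace Cfsg.Agent.H393.S8.ON

open Cfsg.Agent.Characters.Core Cfsg.Agent.Characters.Clifford
open Cfsg.Agent.H653.Sieve (deg deg_cast one_of_deg allDiv facProd)
open Cfsg.Agent.H653.Sys
open Cfsg.Agent.H210.On7 (Data)
open Cfsg.Agent.H535.K4.ON

universe u v

/-- the candidates -/
def Adm : List ℕ := [
  1, 32, 341, 418, 836, 837, 1178, 2046, 2464, 3255, 4851, 5301, 5643, 6479, 6480, 7315, 10912, 10944, 11780,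
  12540, 12958, 13376, 14136, 15840, 19437, 20615, 21483, 23870, 24320, 24738, 25080, 25916, 26334, 26752,
  26784, 27930, 31185, 32395, 32736, 36828, 37696, 38874, 40920, 45276, 45353, 46872, 48608, 51072, 51832,
  52668, 53010, 58311, 58653, 63612, 64449, 64790, 65968, 66836, 71687, 77748, 84645, 85064, 90288, 90706,
  97185, 100440, 103664, 111321, 114576, 115444, 116622, 116963, 117040, 122760, 129580, 136059, 138105,
  141360, 143374, 147840, 155496, 169290, 174592, 174933, 175616, 175770, 180576, 181412, 182280, 194370,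
  196416, 200508, 207328, 207360, 218240, 226765, 233244, 234080, 238545, 245784, 259160, 272118, 291060,
  291555, 296856, 310992, 317471, 318990, 343728, 349866, 362824, 381920, 414656, 429660, 432915, 452352,
  460845, 466488, 491568, 498960, 519498, 544236, 589248, 636120, 654720]

/-- the candidates for `O'N.2` -/
def Adm2 : List ℕ := Adm ++ (Adm.filter fun d => Nat.blt 1 d).map fun d => 2 * d

/-- the sieve -/
def chk (d : ℕ) : Bool := Nat.ble NN (d * d) || Adm.contains d || allV Fs d fun _ => false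

theorem chk_all : allDiv NN chk facs 1 = true := by decide +kernel

section

variable {G : Type u} [Group G] [Finite G]

/-- **the superset** -/
theorem mem_adm [IsSimpleGroup G] (hG : ¬ IsMulCommutative G) (Δ : Data G) (χ : IrrCharacter G) : deg χ ∈ Adm := by
  classical
  have := finite_irr (G := G)
  have := Fintype.ofFinite (IrrCharacter G)
  by_cases h1 : (χ : G → ℂ) = 1
  · have h2 : deg χ = 1 := by
      unfold deg charDegree
      rw [h1]
      simp
    rw [h2]
    decide
  obtain ⟨A, B, C, T, F, w, hs, -, -⟩ := exists_sys hG Δ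
  have hN : Nat.card G = NN := Δ.card
  have hdvd : deg χ ∣ facProd facs := by
    rw [facs_prod, ← hN]
    exact Blocks.Knorr.charDegree_dvd χ.2
  have hlt : deg χ * deg χ < NN := by
    have hsq : ∑ χ : IrrCharacter G, deg χ * deg χ = NN := by
      have h3 := SmallSimple.DegreeData.sum_sq (G := G)
      rw [← hN, ← h3]
      exact Finset.sum_congr rfl fun χ _ => by unfold deg; ring
    obtain ⟨χ₁, hχ₁⟩ : ∃ χ₁ : IrrCharacter G, (χ₁ : G → ℂ) = 1 := ⟨⟨1, isIrr_one⟩, rfl⟩
    have hne : χ ≠ χ₁ := fun h => h1 (by rw [h, hχ₁])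
    have hd1 : deg χ₁ = 1 := by
      unfold deg charDegree
      rw [hχ₁]
      simp
    have h4 : ∑ χ' ∈ ({χ, χ₁} : Finset (IrrCharacter G)), deg χ' * deg χ' ≤
        ∑ χ' : IrrCharacter G, deg χ' * deg χ' :=
      Finset.sum_le_sum_of_subset (Finset.subset_univ _)
    rw [Finset.sum_pair hne, hsq, hd1] at h4
    omega
  have hpr : ∀ pa ∈ facs, pa.1.Prime := by
    intro pa hpa
    have := List.all_eq_true.1 facs_prime pa hpa
    simpa using this
  have h3 := H653.Sieve.allDiv_spec hpr chk_all (deg χ) hdvd (by rwa [one_mul])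
  rw [one_mul, chk] at h3
  simp only [Bool.or_eq_true] at h3
  rcases h3 with (h3 | h3) | h3
  · exact absurd (Nat.le_of_ble_eq_true h3) (by omega)
  · exact List.contains_iff_mem.1 h3
  · exact absurd (allV_spec hs χ h3) Bool.false_ne_true

/-- degrees over a normal subgroup of index two (after helper109) -/
theorem deg_index_two (N : Subgroup G) [N.Normal] (h2 : N.index = 2) {e : ℕ} (he : e ∈ charDegrees G) :
    e ∈ charDegrees N ∨ ∃ (χ χ' : IrrCharacter N) (f : ℕ), χ ≠ χ' ∧ (χ : N → ℂ) 1 = f ∧ (χ' : N → ℂ) 1 = f ∧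
      e = 2 * f := by
  classical
  have := Fintype.ofFinite G
  have := Fintype.ofFinite N
  have := finite_irr (G := N)
  have := Fintype.ofFinite (IrrCharacter N)
  obtain ⟨ψ, hψ, h1⟩ := H424.DegTools.mem_charDegrees.1 he
  have hψN := isCharacter_restrict N (isIrr_isCharacter hψ)
  rcases Cfsg.Agent.CharactersDeep.PrimeIndex.norm_restrict_prime_index N Nat.prime_two h2 hψ with h | h
  · left
    exact H424.DegTools.mem_charDegrees.2 ⟨_, isIrr_of_classInner_self hψN h, h1⟩
  · right
    obtain ⟨m, hm⟩ := exists_nat_comb hψN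
    have hcoef : ∀ η : IrrCharacter N, classInner (fun n : N => ψ n) (η : N → ℂ) = m η := fun η => by
      rw [hm, classInner_sum_nsmul_irr]
    have hsq : ∑ η : IrrCharacter N, m η ^ 2 = 2 := by
      have h1 := classInner_sum_smul_sum_smul (G := N) (fun η => (m η : ℂ)) (fun η => (m η : ℂ))
      simp only [Nat.cast_smul_eq_nsmul] at h1
      rw [← hm, h] at h1
      have h3 : ((∑ η : IrrCharacter N, m η ^ 2 : ℕ) : ℂ) = ((2 : ℕ) : ℂ) := by
        rw [h1]
        push_cast
        refine Finset.sum_congr rfl fun η _ => ?_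
        rw [Complex.conj_natCast, sq]
      exact_mod_cast h3
    -- the multiplicities are at most one
    have hle : ∀ η, m η ≤ 1 := by
      intro η
      have h3 : m η ^ 2 ≤ ∑ η : IrrCharacter N, m η ^ 2 :=
        Finset.single_le_sum (f := fun η => m η ^ 2) (fun _ _ => Nat.zero_le _) (Finset.mem_univ η)
      rw [hsq] at h3
      by_contra hcon
      have h4 : 2 ^ 2 ≤ m η ^ 2 := Nat.pow_le_pow_left (by omega) 2
      omega
    have hsum : ∑ η : IrrCharacter N, m η = 2 := by
      rw [← hsq]
      refine Finset.sum_congr rfl fun η _ => ?_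
      have h3 := hle η
      interval_cases m η <;> rfl
    have hcard : (Finset.univ.filter fun η : IrrCharacter N => m η = 1).card = 2 := by
      rw [← hsum, Finset.card_filter]
      refine Finset.sum_congr rfl fun η _ => ?_
      have h3 := hle η
      interval_cases m η <;> simp
    obtain ⟨a, b, hab, hs⟩ := Finset.card_eq_two.1 hcard
    have ha : m a = 1 := by
      have : a ∈ Finset.univ.filter fun η : IrrCharacter N => m η = 1 := by rw [hs]; simp
      simpa using this
    have hb : m b = 1 := by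
      have : b ∈ Finset.univ.filter fun η : IrrCharacter N => m η = 1 := by rw [hs]; simp
      simpa using this
    have ha0 : classInner (fun n : N => ψ n) (a : N → ℂ) ≠ 0 := by rw [hcoef, ha]; simp
    have hb0 : classInner (fun n : N => ψ n) (b : N → ℂ) ≠ 0 := by rw [hcoef, hb]; simp
    obtain ⟨x, hx⟩ := exists_conj_of_constituents N hψ a.2 b.2 ha0 hb0
    obtain ⟨f, -, hf⟩ := isIrr_apply_one a.2
    have hbf : (b : N → ℂ) 1 = f := by
      rw [hx]
      simpa using hf
    refine ⟨a, b, f, hab, hf, hbf, ?_⟩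
    have h3 : (fun n : N => ψ n) = (a : N → ℂ) + (b : N → ℂ) := by
      rw [hm]
      rw [← Finset.sum_subset (Finset.subset_univ ({a, b} : Finset (IrrCharacter N)))]
      · rw [Finset.sum_pair hab, ha, hb, one_smul, one_smul]
      · intro η _ hη
        have h4 : m η ≠ 1 := by
          intro h5
          apply hη
          rw [← hs]
          simpa using h5
        have h5 : m η = 0 := by
          have := hle η
          omega
        rw [h5, zero_smul]
    have h4 := congrFun h3 1
    simp only [OneMemClass.coe_one, Pi.add_apply, h1, hf, hbf] at h4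
    have h5 : (e : ℂ) = ((2 * f : ℕ) : ℂ) := by
      rw [h4]
      push_cast
      ring
    exact_mod_cast h5

/-- degrees of a group above those of a normal subgroup of index two -/
theorem up_two (N : Subgroup G) [N.Normal] (h2 : N.index = 2) {f : ℕ} (hf : f ∈ charDegrees N) :
    f ∈ charDegrees G ∨ 2 * f ∈ charDegrees G := by
  obtain ⟨d, hd, ⟨k, hk⟩, h3⟩ := H424.DegTools.clifford_up N hf
  have hf0 := H424.DegTools.pos_of_mem hf
  rw [hk, Nat.mul_div_cancel_left _ hf0, h2] at h3
  have hk2 : k ≤ 2 := Nat.le_of_dvd (by norm_num) h3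
  have hd0 := H424.DegTools.pos_of_mem hd
  have hk0 : k ≠ 0 := by
    rintro rfl
    omega
  have : k = 1 ∨ k = 2 := by omega
  rcases this with rfl | rfl
  · left
    rwa [hk, mul_one] at hd
  · right
    rwa [hk, mul_comm] at hd

end

/-! ### `O'N` -/

instance finite_ON : Finite Spor.ON := KFacts.ON.Cent.finite_ON

theorem simple : IsSimpleGroup Spor.ON := KFacts.ON.Cent.hON.1

theorem not_comm : ¬ IsMulCommutative Spor.ON := by
  intro h
  have h1 := H210.On7.px1
  rw [h.is_comm.comm H210.On7.p0 H210.On7.x1, mul_inv_cancel_right] at h1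
  have h3 := H210.On7.px2
  rw [h.is_comm.comm H210.On7.p0 H210.On7.x2, mul_inv_cancel_right, ← h1] at h3
  have h4 : H210.On7.x1 ^ 2 = 1 := by rw [pow_two]; nth_rewrite 1 [h3]; exact inv_mul_cancel _
  exact H210.On7.x1_ne (R04.ThreeAbs.eq_one_of_sq_cube h4 H210.On7.x1_pow)

theorem adm_of_mem {d : ℕ} (hd : d ∈ charDegrees Spor.ON) : d ∈ Adm := by
  have hs := simple
  obtain ⟨Δ⟩ := H210.On7.exists_data
  obtain ⟨χ, rfl⟩ := hd
  exact mem_adm not_comm Δ χ

theorem mem_58653 : 58653 ∈ charDegrees Spor.ON := by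
  have hs := simple
  obtain ⟨Δ⟩ := H210.On7.exists_data
  obtain ⟨c, -, hc⟩ := exists_deg not_comm Δ 58653 a_f58653 cs_f58653 cert_f58653 all_f58653
  exact ⟨c, hc⟩

theorem mem_116963 : 116963 ∈ charDegrees Spor.ON := by
  have hs := simple
  obtain ⟨Δ⟩ := H210.On7.exists_data
  obtain ⟨c, -, hc⟩ := exists_deg not_comm Δ 116963 a_f116963 cs_f116963 cert_f116963 all_f116963
  exact ⟨c, hc⟩

theorem mem_32395 : 32395 ∈ charDegrees Spor.ON := by
  obtain ⟨χ, hχ⟩ := H492.FactsON.exists_32395
  exact H424.DegTools.mem_charDegrees.2 ⟨χ, χ.2, hχ⟩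

theorem mem_207360 : 207360 ∈ charDegrees Spor.ON := by
  obtain ⟨χ, hχ⟩ := H210.ON3.exists_charDegree
  exact ⟨χ, hχ⟩

theorem uniq_116963 {χ ψ : IrrCharacter Spor.ON} (h1 : charDegree (χ : Spor.ON → ℂ) = 116963)
    (h2 : charDegree (ψ : Spor.ON → ℂ) = 116963) : χ = ψ := by
  have hs := simple
  obtain ⟨Δ⟩ := H210.On7.exists_data
  exact uniq_deg not_comm Δ 116963 a_u116963 m_u116963 (by norm_num [m_u116963]) cs_u116963 cert_u116963 all_u116963 h1 h2

theorem uniq_58653 {χ ψ : IrrCharacter Spor.ON} (h1 : charDegree (χ : Spor.ON → ℂ) = 58653)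
    (h2 : charDegree (ψ : Spor.ON → ℂ) = 58653) : χ = ψ := by
  have hs := simple
  obtain ⟨Δ⟩ := H210.On7.exists_data
  exact uniq_deg not_comm Δ 58653 a_u58653 m_u58653 (by norm_num [m_u58653]) cs_u58653 cert_u58653 all_u58653 h1 h2

/-! ### `O'N.2` -/

theorem center_bot : Subgroup.center Spor.ON = ⊥ := by
  have hs := simple
  rcases (inferInstance : (Subgroup.center Spor.ON).Normal).eq_bot_or_eq_top with h | h
  · exact h
  · exfalso
    refine not_comm ⟨⟨fun a b => ?_⟩⟩
    have : b ∈ Subgroup.center Spor.ON := by rw [h]; trivial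
    exact Subgroup.mem_center_iff.1 this a

/-- the inner automorphisms -/
def Inn : Subgroup (MulAut Spor.ON) := (MulAut.conj : Spor.ON →* MulAut Spor.ON).range

instance : Inn.Normal := by
  constructor
  rintro _ ⟨x, rfl⟩ g
  exact ⟨g x, by ext y; simp [MulAut.conj_apply]⟩

theorem index_Inn : Inn.index = 2 := by
  have h := S2078.result
  rw [H55.OutGen.card_out_eq_index] at h
  exact h

/-- the isomorphism with the inner automorphisms -/
noncomputable def E : Spor.ON ≃* Inn := MonoidHom.ofInjective (f := MulAut.conj) (by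
  rw [injective_iff_map_eq_one]
  intro a ha
  rw [← Subgroup.mem_bot, ← center_bot, Subgroup.mem_center_iff]
  intro y
  have h1 : MulAut.conj a y = y := by rw [ha]; rfl
  rw [MulAut.conj_apply, mul_inv_eq_iff_eq_mul] at h1
  exact h1.symm)

instance : Finite (MulAut Spor.ON) := inferInstance

/-- a degree of `O'N.2` -/
theorem down {d : ℕ} (hd : d ∈ charDegrees (MulAut Spor.ON)) : d ∈ charDegrees Spor.ON ∨
    ∃ (χ χ' : IrrCharacter Spor.ON) (f : ℕ), χ ≠ χ' ∧ charDegree (χ : Spor.ON → ℂ) = f ∧
      charDegree (χ' : Spor.ON → ℂ) = f ∧ d = 2 * f := by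
  rcases deg_index_two Inn index_Inn hd with h | ⟨χ, χ', f, h3, h4, h5, h6⟩
  · left
    rwa [H424.DegTools.charDegrees_congr E]
  · right
    refine ⟨⟨_, isIrr_comp E.toMonoidHom E.surjective χ.2⟩, ⟨_, isIrr_comp E.toMonoidHom E.surjective χ'.2⟩, f, ?_, ?_,
      ?_, h6⟩
    · intro h7
      apply h3
      apply Subtype.ext
      have h8 := congrArg Subtype.val h7
      funext y
      have h9 := congrFun h8 (E.symm y)
      simpa using h9
    · apply Blocks.Basic.charDegree_of_eq
      simpa using h4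
    · apply Blocks.Basic.charDegree_of_eq
      simpa using h5

theorem up {f : ℕ} (hf : f ∈ charDegrees Spor.ON) :
    f ∈ charDegrees (MulAut Spor.ON) ∨ 2 * f ∈ charDegrees (MulAut Spor.ON) := by
  rw [H424.DegTools.charDegrees_congr E] at hf
  exact up_two Inn index_Inn hf

/-- a degree of a single character which is not half of a candidate -/
theorem up_uniq {f : ℕ} (hf : f ∈ charDegrees Spor.ON) (h2 : 2 * f ∉ Adm)
    (hu : ∀ χ ψ : IrrCharacter Spor.ON, charDegree (χ : Spor.ON → ℂ) = f → charDegree (ψ : Spor.ON → ℂ) = f → χ = ψ) :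
    f ∈ charDegrees (MulAut Spor.ON) := by
  rcases up hf with h | h
  · exact h
  · exfalso
    rcases down h with h1 | ⟨χ, χ', f', h3, h4, h5, h6⟩
    · exact h2 (adm_of_mem h1)
    · obtain rfl : f = f' := by omega
      exact h3 (hu χ χ' h4 h5)

theorem adm2_of_mem {d : ℕ} (hd : d ∈ charDegrees (MulAut Spor.ON)) : d ∈ Adm2 := by
  unfold Adm2
  rw [List.mem_append]
  rcases down hd with h1 | ⟨χ, χ', f, h3, h4, h5, rfl⟩
  · exact Or.inl (adm_of_mem h1)
  · right
    refine List.mem_map.2 ⟨f, List.mem_filter.2 ⟨adm_of_mem ⟨χ, h4⟩, ?_⟩, rfl⟩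
    by_contra hcon
    have h6 : ¬ 1 < f := fun h => hcon (by simpa [Nat.blt_eq] using h)
    have h7 : 0 < f := H424.DegTools.pos_of_mem (G := Spor.ON) ⟨χ, h4⟩
    obtain rfl : f = 1 := by omega
    have hs := simple
    have := finite_irr (G := Spor.ON)
    have := Fintype.ofFinite (IrrCharacter Spor.ON)
    have hnp : ¬ (Nat.card Spor.ON).Prime := by
      obtain ⟨Δ⟩ := H210.On7.exists_data
      rw [Δ.card]
      exact fun h => absurd (h.eq_one_or_self_of_dvd 2 (by norm_num)) (by norm_num)
    apply h3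
    apply Subtype.ext
    rw [one_of_deg hnp χ h4, one_of_deg hnp χ' h5]

/-! ### SOLV -/

/-- the primes -/
def PP : List ℕ := [2, 3, 5, 7, 11, 19, 31]

theorem prime_PP : ∀ p ∈ PP, p.Prime := by
  intro p hp
  simp only [PP, List.mem_cons, List.not_mem_nil, or_false] at hp
  rcases hp with rfl | rfl | rfl | rfl | rfl | rfl | rfl <;> norm_num

theorem chk_one : H497.S8.chk 654720 PP Adm [32395, 58653, 116963, 207360] = true := by decide +kernel

theorem chk_two : H497.S8.chk 1309440 PP Adm2 [32395, 58653, 116963, 207360] = true := by decide +kernel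
theorem chk_two' : H497.S8.chk 1309440 PP Adm2 [32395, 58653, 116963, 414720] = true := by decide +kernel
theorem chk_two'' : H497.S8.chk 1309440 PP Adm2 [64790, 58653, 116963, 207360] = true := by decide +kernel
theorem chk_two''' : H497.S8.chk 1309440 PP Adm2 [64790, 58653, 116963, 414720] = true := by decide +kernel

theorem four_mem {D : Set ℕ} {a b c d : ℕ} (ha : a ∈ D) (hb : b ∈ D) (hc : c ∈ D) (hd : d ∈ D) :
    ∀ n ∈ [a, b, c, d], n ∈ D := by
  intro n hn
  simp only [List.mem_cons, List.not_mem_nil, or_false] at hn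
  rcases hn with rfl | rfl | rfl | rfl <;> assumption

theorem solv_one : H704.S8.Solv.{u} (charDegrees Spor.ON) := by
  intro G _ _ hsol hD
  exact H497.S8.solv_of_chk 654720 PP Adm _ prime_PP (fun _ hd => adm_of_mem hd)
    (four_mem mem_32395 mem_58653 mem_116963 mem_207360) chk_one hsol hD

theorem solv_two : H704.S8.Solv.{u} (charDegrees (MulAut Spor.ON)) := by
  intro G _ _ hsol hD
  have h1 : 58653 ∈ charDegrees (MulAut Spor.ON) := up_uniq mem_58653 (by decide) fun _ _ => uniq_58653
  have h2 : 116963 ∈ charDegrees (MulAut Spor.ON) := up_uniq mem_116963 (by decide) fun _ _ => uniq_116963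
  have h3 : 32395 ∈ charDegrees (MulAut Spor.ON) ∨ 64790 ∈ charDegrees (MulAut Spor.ON) := up mem_32395
  have h4 : 207360 ∈ charDegrees (MulAut Spor.ON) ∨ 414720 ∈ charDegrees (MulAut Spor.ON) := up mem_207360
  rcases h3 with h3 | h3 <;> rcases h4 with h4 | h4
  · exact H497.S8.solv_of_chk 1309440 PP Adm2 _ prime_PP (fun _ hd => adm2_of_mem hd) (four_mem h3 h1 h2 h4) chk_two
      hsol hD
  · exact H497.S8.solv_of_chk 1309440 PP Adm2 _ prime_PP (fun _ hd => adm2_of_mem hd) (four_mem h3 h1 h2 h4) chk_two'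
      hsol hD
  · exact H497.S8.solv_of_chk 1309440 PP Adm2 _ prime_PP (fun _ hd => adm2_of_mem hd) (four_mem h3 h1 h2 h4) chk_two''
      hsol hD
  · exact H497.S8.solv_of_chk 1309440 PP Adm2 _ prime_PP (fun _ hd => adm2_of_mem hd) (four_mem h3 h1 h2 h4) chk_two'''
      hsol hD

/-- the degree set of an isomorphic copy -/
theorem deg_model {X : Type v} [Group X] (hX : Spor.IsoON X) {D : Set ℕ} (hD : H704.S8.Deg 2 X D) :
    H704.S8.Deg 2 Spor.ON D := by
  obtain ⟨e⟩ := hX
  rcases hD with rfl | ⟨-, rfl⟩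
  · exact Or.inl (H424.DegTools.charDegrees_congr e)
  · exact Or.inr ⟨rfl, H424.DegTools.charDegrees_congr (MulAut.congr e)⟩

/-- **superset**: the degrees of `O'N` and `O'N.2` are in `Adm2` -/
theorem sup {X : Type v} [Group X] (hX : Spor.IsoON X) {D : Set ℕ} (hD : H704.S8.Deg 2 X D) : ∀ d ∈ D, d ∈ Adm2 := by
  intro d hd
  rcases deg_model hX hD with rfl | ⟨-, rfl⟩
  · exact List.mem_append_left _ (adm_of_mem hd)
  · exact adm2_of_mem hd

/-- **SOLV** for the O'Nan group -/
theorem solv {X : Type v} [Group X] (hX : Spor.IsoON X) (D : Set ℕ) (hD : H704.S8.Deg 2 X D) : H704.S8.Solv.{u} D := by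
  intro G _ _ hsol hG
  rcases deg_model hX hD with rfl | ⟨-, rfl⟩
  · exact solv_one hsol hG
  · exact solv_two hsol hG

end Cfsg.Agent.H393.S8.ON
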