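import Cfsg.Agent.H281.S8.He
import Cfsg.Agent.H825.SB.HeChar
import Cfsg.Agent.OddOrderCharacters.NormTwo
import Cfsg.Agent.H424.DegTools

/-!
# Degrees of the Held group: 17493, and the generalized character of norm two and degree 43008 (helper393)

The tables of generalized characters of helper825; `th2 = ε χ + δ ψ`, the column of 17 gives `ε = δ = 1` and
`{χ(1), ψ(1)}` is `{21504, 21504}` or `{32928, 10080}` once `χ(1), ψ(1)` are in the list of candidates.
-/

set_option autoImplicit false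
set_option maxRecDepth 100000

namespace Cfsg.Agent.H393.S8.HeDeg

open Cfsg Cfsg.Spor Subgroup Cfsg.Agent.Characters.Core Cfsg.Agent.Characters.Brauer
open Cfsg.Agent.SporadicB.HePerm
open Cfsg.Agent.H300.Cls Cfsg.Agent.H825.SB.He
open Cfsg.Agent.H153.Zeros.He17 (W17 o17)
open Cfsg.Agent.H653.Sieve (csum csum_eq_erase IsCol exists_col ColOK deg deg_cast)
open scoped ComplexConjugate

/-- the table of the character of degree 17493 -/
def th17493 : List ℤ := [17493, 21, 21, -21, 0, -7, -3, 5, -7, 3, 0, 0, 0, 1, 1, -1, 0, 0, -1, 0, 0, 0]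

theorem gc_th17493 : GC fam th17493 := GC.lin fam_lt [
  (-115120077, v0), (375323318, v1), (-218325302, v2), (-1193142925, v3), (-108859913, v4), (31540826, v5),
  (510553582, v6), (731633740, v7), (1031454399, v8), (244010416, v9), (-264784302, v10), (-10177467, v11),
  (218325302, v12), (-151343328, v13), (-134432763, v14), (-177108203, v15), (-408808245, v16), (79251, v17),
  (56451279, v18), (-234127586, v19), (-988283, v20), (253505970, v21), (73851576, v22), (-113088055, v23)]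
    (
List.forall_mem_cons.2 ⟨gc0, List.forall_mem_cons.2 ⟨gc1, List.forall_mem_cons.2 ⟨gc2, List.forall_mem_cons.2
  ⟨gc3, List.forall_mem_cons.2 ⟨gc4, List.forall_mem_cons.2 ⟨gc5, List.forall_mem_cons.2 ⟨gc6,
  List.forall_mem_cons.2 ⟨gc7, List.forall_mem_cons.2 ⟨gc8, List.forall_mem_cons.2 ⟨gc9, List.forall_mem_cons.2
  ⟨gc10, List.forall_mem_cons.2 ⟨gc11, List.forall_mem_cons.2 ⟨gc12, List.forall_mem_cons.2 ⟨gc13,
  List.forall_mem_cons.2 ⟨gc14, List.forall_mem_cons.2 ⟨gc15, List.forall_mem_cons.2 ⟨gc16,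
  List.forall_mem_cons.2 ⟨gc17, List.forall_mem_cons.2 ⟨gc18, List.forall_mem_cons.2 ⟨gc19,
  List.forall_mem_cons.2 ⟨gc20, List.forall_mem_cons.2 ⟨gc21, List.forall_mem_cons.2 ⟨gc22,
  List.forall_mem_cons.2 ⟨gc23, fun _ h => absurd h List.not_mem_nil⟩⟩⟩⟩⟩⟩⟩⟩⟩⟩⟩⟩⟩⟩⟩⟩⟩⟩⟩⟩⟩⟩⟩⟩) th17493
    (by decide +kernel)

/-- **the irreducible character of degree 17493** -/
theorem exists_17493 : ∃ χ : IrrCharacter Cfsg.Spor.He, charDegree (χ : Cfsg.Spor.He → ℂ) = 17493 := by
  obtain ⟨hfin, -⟩ := Cfsg.Agent.SporadicB.HeUpper.card_he_le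
  have := Fintype.ofFinite Cfsg.Spor.He
  obtain ⟨x, h1, h2, h3, h4⟩ := classes33
  have h5 : IsIrrCharacter Cfsg.Spor.He (tv fam th17493) := by
    refine GC.irr gc_th17493 x h2 h3 (fun i => 4030387200 / C33.getD i 0) h4 (fun _ _ => fam_conj)
      (fun i => F33.getD i 0) (fun i => (h1 i).fam_eq) ?_ ?_
    · rw [Cfsg.Agent.KFacts.He.Classes.card_he]
      decide +kernel
    · rw [fam_one]
      decide
  refine ⟨⟨_, h5⟩, Cfsg.Agent.Blocks.Basic.charDegree_of_eq ?_⟩
  show tv fam th17493 1 = _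
  rw [tv, fam_one]
  norm_num [th17493]

/-- the table of the generalized character of norm two -/
def th2 : List ℤ := [43008, 0, 0, -48, 0, 0, 0, 0, 8, 0, 0, -14, 0, 0, 0, 0, 0, 0, 2, -2, 1, 0]

theorem gc_th2 : GC fam th2 := GC.lin fam_lt [
  (18079791, v0), (10438968, v1), (56906576, v2), (88919600, v3), (-82573702, v4), (-22885706, v5),
  (-90611130, v6), (-133116370, v7), (-41361463, v8), (-35693002, v9), (61271384, v10), (15908816, v11),
  (-56906576, v12), (54054941, v13), (39043738, v14), (15624764, v15), (82402421, v16), (-12398, v17),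
  (-31024457, v18), (34146891, v19), (154611, v20), (-59490934, v21), (-25909594, v22), (40372895, v23)]
    (
List.forall_mem_cons.2 ⟨gc0, List.forall_mem_cons.2 ⟨gc1, List.forall_mem_cons.2 ⟨gc2, List.forall_mem_cons.2
  ⟨gc3, List.forall_mem_cons.2 ⟨gc4, List.forall_mem_cons.2 ⟨gc5, List.forall_mem_cons.2 ⟨gc6,
  List.forall_mem_cons.2 ⟨gc7, List.forall_mem_cons.2 ⟨gc8, List.forall_mem_cons.2 ⟨gc9, List.forall_mem_cons.2
  ⟨gc10, List.forall_mem_cons.2 ⟨gc11, List.forall_mem_cons.2 ⟨gc12, List.forall_mem_cons.2 ⟨gc13,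
  List.forall_mem_cons.2 ⟨gc14, List.forall_mem_cons.2 ⟨gc15, List.forall_mem_cons.2 ⟨gc16,
  List.forall_mem_cons.2 ⟨gc17, List.forall_mem_cons.2 ⟨gc18, List.forall_mem_cons.2 ⟨gc19,
  List.forall_mem_cons.2 ⟨gc20, List.forall_mem_cons.2 ⟨gc21, List.forall_mem_cons.2 ⟨gc22,
  List.forall_mem_cons.2 ⟨gc23, fun _ h => absurd h List.not_mem_nil⟩⟩⟩⟩⟩⟩⟩⟩⟩⟩⟩⟩⟩⟩⟩⟩⟩⟩⟩⟩⟩⟩⟩⟩) th2
    (by decide +kernel)

theorem norm_th2 [Fintype Cfsg.Spor.He] : classInner (tv fam th2) (tv fam th2) = (2 : ℂ) := by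
  obtain ⟨x, h1, h2, h3, h4⟩ := classes33
  have hsum : ∑ g : Cfsg.Spor.He, (th2.getD (fam g) 0) ^ 2 = (2 * 4030387200 : ℤ) := by
    rw [sum_classes x h2 h3 (fun g => th2.getD (fam g) 0 ^ 2) (fun x y hxy => by rw [fam_conj hxy])]
    have h5 : ∀ i : Fin 33, Nat.card {u : Cfsg.Spor.He // IsConj (x i) u} • th2.getD (fam (x i)) 0 ^ 2 =
        ((4030387200 / C33.getD i 0 : ℕ) : ℤ) * (th2.getD (F33.getD i 0) 0) ^ 2 := by
      intro i
      rw [h4, (h1 i).fam_eq, nsmul_eq_mul]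
    rw [Finset.sum_congr rfl fun i _ => h5 i]
    decide +kernel
  rw [classInner_def]
  have h6 : ∑ g : Cfsg.Spor.He, tv fam th2 g * conj (tv fam th2 g) = ((2 * 4030387200 : ℤ) : ℂ) := by
    rw [← hsum]
    push_cast
    refine Finset.sum_congr rfl fun g _ => ?_
    unfold tv
    rw [map_intCast]
    ring
  rw [h6, Cfsg.Agent.KFacts.He.Classes.card_he]
  norm_num

/-- the elements of order 17 -/
theorem fam_17 {P : Sylow 17 Cfsg.Spor.He} (hP : Nat.card (P : Subgroup Cfsg.Spor.He) = 17) {g : Cfsg.Spor.He}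
    (hg : g ∈ P) (h1 : g ≠ 1) : fam g = 19 := by
  have h17 : Fact (Nat.Prime 17) := ⟨by norm_num⟩
  obtain ⟨hfin, -⟩ := Cfsg.Agent.SporadicB.HeUpper.card_he_le
  have hpg : IsPGroup 17 (zpowers (wd W17)) := IsPGroup.of_card (n := 1) (by rw [Nat.card_zpowers, o17, pow_one])
  obtain ⟨Q, hQ⟩ := hpg.exists_le_sylow
  have hc : Nat.card (Q : Subgroup Cfsg.Spor.He) = 17 := by
    exact (Nat.card_congr (Q.equiv P).toEquiv).trans hP
  have hQ' : zpowers (wd W17) = (Q : Subgroup Cfsg.Spor.He) :=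
    eq_of_le_of_card_ge hQ (by rw [hc, Nat.card_zpowers, o17])
  obtain ⟨u, hu⟩ := MulAction.exists_smul_eq Cfsg.Spor.He P Q
  have h2 : u * g * u⁻¹ ∈ Q := by
    rw [← hu, ← SetLike.mem_coe, Sylow.coe_smul]
    exact ⟨g, hg, by simp [MulAut.conj_apply]⟩
  have h3 : u * g * u⁻¹ ∈ zpowers (wd W17) := by
    rw [hQ']
    exact h2
  have h4 : u * g * u⁻¹ ≠ 1 := by
    intro h
    exact h1 (by simpa using h)
  have h5 := (row17 h3 h4).fam_eq
  rw [← h5]
  exact fam_conj (isConj_iff.2 ⟨u, rfl⟩)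

/-- **the constituents of the character of norm two** -/
theorem exists_two : ∃ (χ ψ : IrrCharacter Cfsg.Spor.He), χ ≠ ψ ∧
    ((deg χ % 17 = 16 ∧ deg ψ % 17 = 16 ∧ deg χ + deg ψ = 43008) ∨
      (deg χ % 17 = 16 ∧ deg ψ % 17 = 1 ∧ deg χ = deg ψ + 43008)) := by
  classical
  have h17 : Fact (Nat.Prime 17) := ⟨by norm_num⟩
  have hs := H281.S8.He.simple
  have hfin := H281.S8.He.fin
  have := Fintype.ofFinite Cfsg.Spor.He
  have := finite_irr (G := Cfsg.Spor.He)
  have := Fintype.ofFinite (IrrCharacter Cfsg.Spor.He)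
  obtain ⟨hr, x, hx, hc⟩ := H281.S8.He.has
  obtain ⟨P, W, hP, he, hcol, hok⟩ := exists_col (p := 17) H281.S8.He.not_comm H281.S8.He.card (k := 1) hx hc 8 2
    [(0, 0), (1, 2), (8, -1), (9, 1), (16, -2)] 2 true H281.S8.He.ok
  obtain ⟨m, hm⟩ := isGeneralizedCharacter_iff.1 gc_th2
  have h2 := norm_th2
  rw [hm, OddOrderCharacters.NormTwo.classInner_intSum] at h2
  have h2' : ∑ ψ, m ψ ^ 2 = 2 := by
    have : (∑ ψ, m ψ * m ψ : ℤ) = 2 := by exact_mod_cast h2
    simpa [sq] using this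
  obtain ⟨i, j, hij, hi, hj, hk⟩ := OddOrderCharacters.NormTwo.exists_of_sum_sq_eq_two m h2'
  have hsum : tv fam th2 = m i • (i : Cfsg.Spor.He → ℂ) + m j • (j : Cfsg.Spor.He → ℂ) := by
    rw [hm, ← Finset.sum_pair (f := fun ψ : IrrCharacter Cfsg.Spor.He => m ψ • (ψ : Cfsg.Spor.He → ℂ)) hij]
    symm
    apply Finset.sum_subset (Finset.subset_univ _)
    intro k _ hk'
    simp only [Finset.mem_insert, Finset.mem_singleton, not_or] at hk'
    rw [hk k hk'.1 hk'.2, zero_smul]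
  have hpt : ∀ g, tv fam th2 g = (m i : ℂ) * (i : Cfsg.Spor.He → ℂ) g + (m j : ℂ) * (j : Cfsg.Spor.He → ℂ) g := by
    intro g
    rw [hsum, Pi.add_apply, Pi.smul_apply, Pi.smul_apply, zsmul_eq_mul, zsmul_eq_mul]
  -- the degree
  have hd : m i * (deg i : ℤ) + m j * (deg j : ℤ) = 43008 := by
    have h3 := hpt 1
    rw [tv, fam_one, deg_cast, deg_cast] at h3
    have h4 : ((th2.getD 0 0 : ℤ) : ℂ) = ((43008 : ℤ) : ℂ) := rfl
    rw [h4] at h3
    exact_mod_cast h3.symm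
  -- the column
  have hw : m i * W i + m j * W j = -4 := by
    have := Fintype.ofFinite (P : Subgroup Cfsg.Spor.He)
    have h3 : csum (P : Subgroup Cfsg.Spor.He) (tv fam th2) = -32 := by
      rw [csum_eq_erase]
      have h4 : ∀ x ∈ (Finset.univ : Finset (P : Subgroup Cfsg.Spor.He)).erase 1, tv fam th2 x = -2 := by
        intro x hx
        have h5 := fam_17 hP x.2 fun e => (Finset.mem_erase.1 hx).1 (Subtype.ext e)
        rw [tv, h5]
        norm_num [th2]
      rw [Finset.sum_congr rfl h4, Finset.sum_const, Finset.card_erase_of_mem (Finset.mem_univ _), Finset.card_univ,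
        ← Nat.card_eq_fintype_card, hP]
      norm_num
    have h4 : csum (P : Subgroup Cfsg.Spor.He) (tv fam th2) =
        m i * csum (P : Subgroup Cfsg.Spor.He) (i : Cfsg.Spor.He → ℂ) +
          m j * csum (P : Subgroup Cfsg.Spor.He) (j : Cfsg.Spor.He → ℂ) := by
      rw [csum_eq_erase, csum_eq_erase, csum_eq_erase, Finset.mul_sum, Finset.mul_sum, ← Finset.sum_add_distrib]
      exact Finset.sum_congr rfl fun x _ => hpt x
    rw [h3, ← hcol i, ← hcol j] at h4
    have h5 : (((8 * (m i * W i + m j * W j)) : ℤ) : ℂ) = ((-32 : ℤ) : ℂ) := by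
      push_cast at h4 ⊢
      linear_combination -h4
    have h6 : 8 * (m i * W i + m j * W j) = (-32 : ℤ) := by exact_mod_cast h5
    omega
  have hWi := hok.mem i
  have hWj := hok.mem j
  simp only [List.mem_cons, Prod.mk.injEq, List.not_mem_nil, or_false] at hWi hWj
  rw [sq, mul_self_eq_one_iff] at hi hj
  rcases hi with hi | hi <;> rcases hj with hj | hj <;> rw [hi, hj] at hw hd
  · exact ⟨i, j, hij, Or.inl (by omega)⟩
  · exact ⟨i, j, hij, Or.inr (by omega)⟩
  · exact ⟨j, i, hij.symm, Or.inr (by omega)⟩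
  · omega

end Cfsg.Agent.H393.S8.HeDeg
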