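import Cfsg.Agent.H393.S8.Two
import Cfsg.Agent.H393.S8.HeDeg
import Cfsg.Agent.H497.S8.SolvTwo
import Cfsg.Agent.H687.He8330
import Cfsg.Agent.H687.HeRow
import Cfsg.Agent.H954.LD.Row
import Cfsg.Agent.H55.OutGen
import Cfsg.Agent.S2075

/-!
# S4908, the Held group: superset of the degrees, known degrees, SOLV (helper393)

* known degrees `51, 680, 1275, 1920, 4352, 17493, 20825`, and `{21504, 21504}` or `{32928, 10080}`;
* the superset: divisors of `|He|` which are `0, ±1, ±8` modulo 17, `1` or at least 42, whose square is at most what the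
  known degrees leave;
* `solv` : no solvable group has the degrees of `He` or of `He.2`.
-/

set_option autoImplicit false
set_option linter.unusedSectionVars false

open Cfsg Subgroup

namespace Cfsg.Agent.H393.S8.He

open Cfsg.Agent.Characters.Core
open Cfsg.Agent.H653.Sieve (deg deg_cast one_of_deg allDiv facProd allDiv_spec)
open Cfsg.Agent.H281.S8.He (simple card fin not_comm)

universe u v

/-- the order -/
def NN : ℕ := 4030387200

/-- the factors of the order -/
def facs : List (ℕ × ℕ) := [(2, 10), (3, 3), (5, 2), (7, 3), (17, 1)]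

theorem facs_prod : facProd facs = NN := by decide +kernel

theorem facs_prime : ∀ pa ∈ facs, pa.1.Prime := by
  intro p hp
  simp only [facs, List.mem_cons, List.not_mem_nil, or_false] at hp
  rcases hp with rfl | rfl | rfl | rfl | rfl <;> norm_num

/-- the residues -/
def okr (d : ℕ) : Bool :=
  (Nat.beq d 1 || Nat.ble 42 d) && ([0, 1, 8, 9, 16].any fun r => Nat.beq (d % 17) r)

/-- the check: every admissible divisor `d` in `L` or with `d ^ 2 ≤ R` is in `A` -/
def chk1 (R : ℕ) (L A : List ℕ) : Bool :=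
  allDiv NN (fun d => !(Nat.ble (d * d) R || L.contains d) || !okr d || A.contains d) facs 1

/-- the sum of the squares -/
def sq (L : List ℕ) : ℕ := (L.map fun d => d * d).sum

instance : Finite Cfsg.Spor.He := fin

/-- `L` consists of degrees of different characters -/
def Lst (L : List ℕ) : Prop :=
  ∃ T : Finset (IrrCharacter Cfsg.Spor.He), ∑ χ ∈ T, deg χ * deg χ = sq L ∧ ∀ χ ∈ T, deg χ ∈ L

theorem Lst.nil : Lst [] := ⟨∅, rfl, by simp⟩

theorem Lst.cons {L : List ℕ} (h : Lst L) {χ : IrrCharacter Cfsg.Spor.He} (hχ : deg χ ∉ L) : Lst (deg χ :: L) := by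
  classical
  obtain ⟨T, h1, h2⟩ := h
  have h3 : χ ∉ T := fun h => hχ (h2 χ h)
  refine ⟨insert χ T, ?_, ?_⟩
  · rw [Finset.sum_insert h3, h1]
    rfl
  · intro ψ hψ
    rcases Finset.mem_insert.1 hψ with rfl | h
    · exact List.mem_cons_self
    · exact List.mem_cons_of_mem _ (h2 ψ h)

theorem Lst.cons' {L : List ℕ} (h : Lst L) {d : ℕ} (hd : d ∈ charDegrees Cfsg.Spor.He) (hL : d ∉ L) : Lst (d :: L) := by
  obtain ⟨χ, rfl⟩ := hd
  exact h.cons (χ := χ) hL

theorem Lst.cons2 {L : List ℕ} (h : Lst L) {χ ψ : IrrCharacter Cfsg.Spor.He} (hne : χ ≠ ψ) (hχ : deg χ ∉ L)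
    (hψ : deg ψ ∉ L) : Lst (deg χ :: deg ψ :: L) := by
  classical
  obtain ⟨T, h1, h2⟩ := h
  have h3 : ψ ∉ T := fun h => hψ (h2 ψ h)
  have h4 : χ ∉ insert ψ T := by
    intro h
    rcases Finset.mem_insert.1 h with h | h
    · exact hne h
    · exact hχ (h2 χ h)
  refine ⟨insert χ (insert ψ T), ?_, ?_⟩
  · rw [Finset.sum_insert h4, Finset.sum_insert h3, h1]
    rfl
  · intro φ hφ
    rcases Finset.mem_insert.1 hφ with rfl | h
    · exact List.mem_cons_self
    rcases Finset.mem_insert.1 h with rfl | h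
    · exact List.mem_cons_of_mem _ List.mem_cons_self
    · exact List.mem_cons_of_mem _ (List.mem_cons_of_mem _ (h2 φ h))

theorem sum_sq [Fintype (IrrCharacter Cfsg.Spor.He)] : ∑ χ : IrrCharacter Cfsg.Spor.He, deg χ * deg χ = NN := by
  have := Fintype.ofFinite Cfsg.Spor.He
  have h3 := SmallSimple.DegreeData.sum_sq (G := Cfsg.Spor.He)
  have h4 : Nat.card Cfsg.Spor.He = NN := card
  rw [← h4, ← h3]
  exact Finset.sum_congr rfl fun χ _ => by unfold deg; ring

theorem Lst.bound {L : List ℕ} (h : Lst L) (χ : IrrCharacter Cfsg.Spor.He) : deg χ ∈ L ∨ deg χ * deg χ + sq L ≤ NN := by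
  classical
  have := finite_irr (G := Cfsg.Spor.He)
  have := Fintype.ofFinite (IrrCharacter Cfsg.Spor.He)
  obtain ⟨T, h1, h2⟩ := h
  by_cases h3 : χ ∈ T
  · exact Or.inl (h2 χ h3)
  · right
    have h4 : ∑ ψ ∈ insert χ T, deg ψ * deg ψ ≤ ∑ ψ : IrrCharacter Cfsg.Spor.He, deg ψ * deg ψ :=
      Finset.sum_le_sum_of_subset (Finset.subset_univ _)
    rwa [Finset.sum_insert h3, h1, sum_sq] at h4

theorem Lst.bound2 {L : List ℕ} (h : Lst L) {χ ψ : IrrCharacter Cfsg.Spor.He} (hne : χ ≠ ψ) (he : deg χ = deg ψ) :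
    deg χ ∈ L ∨ 2 * (deg χ * deg χ) + sq L ≤ NN := by
  classical
  have := finite_irr (G := Cfsg.Spor.He)
  have := Fintype.ofFinite (IrrCharacter Cfsg.Spor.He)
  obtain ⟨T, h1, h2⟩ := h
  by_cases h3 : ψ ∈ T
  · exact Or.inl (he ▸ h2 ψ h3)
  by_cases h4 : χ ∈ T
  · exact Or.inl (h2 χ h4)
  · right
    have h5 : χ ∉ insert ψ T := by
      intro h
      rcases Finset.mem_insert.1 h with h | h
      · exact hne h
      · exact h4 h
    have h6 : ∑ ψ ∈ insert χ (insert ψ T), deg ψ * deg ψ ≤ ∑ ψ : IrrCharacter Cfsg.Spor.He, deg ψ * deg ψ :=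
      Finset.sum_le_sum_of_subset (Finset.subset_univ _)
    rw [Finset.sum_insert h5, Finset.sum_insert h3, h1, sum_sq, ← he] at h6
    omega

/-- **the superset from known degrees** -/
theorem mem_of_chk {R : ℕ} {L A : List ℕ} (hL : Lst L) (hR : sq L + R = NN) (hc : chk1 R L A = true)
    (χ : IrrCharacter Cfsg.Spor.He) : deg χ ∈ A := by
  obtain ⟨h1, h2, h3⟩ := H281.S8.He.deg (d := deg χ) ⟨χ, rfl⟩
  have h4 : deg χ ∣ facProd facs := by
    rw [facs_prod]
    exact h1
  have h5 := hL.bound χ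
  have h6 : deg χ * deg χ < NN := by
    rcases (Lst.nil.cons' (d := 1) ⟨⟨1, isIrr_one⟩, by simp [charDegree]⟩ (by simp)).bound χ with h | h
    · rw [List.mem_singleton] at h
      rw [h]
      decide
    · have : sq [1] = 1 := rfl
      omega
  have h7 := allDiv_spec facs_prime hc (deg χ) h4 (by rwa [one_mul])
  rw [one_mul, Bool.or_eq_true, Bool.or_eq_true] at h7
  rcases h7 with (h7 | h7) | h7
  · exfalso
    rw [Bool.not_eq_true', Bool.or_eq_false_iff] at h7
    rcases h5 with h5 | h5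
    · rw [List.contains_iff_mem.2 h5] at h7
      exact absurd h7.2 (by simp)
    · have h8 : Nat.ble (deg χ * deg χ) R = true := Nat.ble_eq_true_of_le (by omega)
      rw [h8] at h7
      exact absurd h7.1 (by simp)
  · exfalso
    have h8 : okr (deg χ) = true := by
      unfold okr
      rw [Bool.and_eq_true, Bool.or_eq_true]
      refine ⟨?_, ?_⟩
      · rcases h2 with h2 | h2
        · left
          rw [h2]
          rfl
        · exact Or.inr (Nat.ble_eq_true_of_le h2)
      · rcases h3 with h | h | h | h | h <;> rw [h] <;> rfl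
    rw [h8] at h7
    exact absurd h7 (by simp)
  · exact List.contains_iff_mem.1 h7

/-! ### The known degrees -/

theorem exists_inv (s : Fin 7) (hs : ∀ t, t ≠ s → H687.He8330.dg t ≠ H687.He8330.dg s) :
    ∃ c : IrrCharacter Cfsg.Spor.He, charDegree (c : Cfsg.Spor.He → ℂ) = H687.He8330.dg s ∧ H954.LD.Inv c := by
  obtain ⟨χ, h1, h2, h3, h4⟩ := H687.He8330.exists_chars
  refine ⟨⟨χ s, h1 s⟩, H687.charDegree_of_eq (h3 s), fun σ x => ?_⟩
  refine H687.Scheme.inv_of_unique h1 (σ := σ) (fun g => ?_) (s := s) (fun t hts => ?_) x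
  · rw [Finset.sum_apply, Finset.sum_apply, h4, h4]
    exact_mod_cast H687.HeRow.pi_aut σ g
  · rw [h3, h3]
    exact_mod_cast hs t hts

theorem index_Inn : (MulAut.conj : Cfsg.Spor.He →* MulAut Cfsg.Spor.He).range.index = 2 := by
  have h := S2075.result
  rw [H55.OutGen.card_out_eq_index] at h
  exact h

theorem center : Subgroup.center Cfsg.Spor.He = ⊥ := by
  have := simple
  exact Two.center_bot not_comm

theorem exists_both (s : Fin 7) (hs : ∀ t, t ≠ s → H687.He8330.dg t ≠ H687.He8330.dg s) :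
    H687.He8330.dg s ∈ charDegrees Cfsg.Spor.He ∧ H687.He8330.dg s ∈ charDegrees (MulAut Cfsg.Spor.He) := by
  have := simple
  obtain ⟨c, h1, h2⟩ := exists_inv s hs
  refine ⟨⟨c, h1⟩, ?_⟩
  obtain ⟨ψ, hψ⟩ := H954.LD.ext_of_inv not_comm (by rw [S2075.result]) h2
  refine ⟨ψ, ?_⟩
  rw [← h1]
  unfold charDegree
  have h3 := hψ 1
  rw [map_one] at h3
  rw [h3]

theorem m51 : 51 ∈ charDegrees Cfsg.Spor.He := by
  obtain ⟨χ, h1, -, h3, -⟩ := H687.He8330.exists_chars
  exact ⟨⟨χ 5, h1 5⟩, H687.charDegree_of_eq (h3 5)⟩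

theorem m1920 : 1920 ∈ charDegrees Cfsg.Spor.He ∧ 1920 ∈ charDegrees (MulAut Cfsg.Spor.He) := exists_both 0 (by decide)
theorem m4352 : 4352 ∈ charDegrees Cfsg.Spor.He ∧ 4352 ∈ charDegrees (MulAut Cfsg.Spor.He) := exists_both 1 (by decide)
theorem m1275 : 1275 ∈ charDegrees Cfsg.Spor.He ∧ 1275 ∈ charDegrees (MulAut Cfsg.Spor.He) := exists_both 2 (by decide)
theorem m680 : 680 ∈ charDegrees Cfsg.Spor.He ∧ 680 ∈ charDegrees (MulAut Cfsg.Spor.He) := exists_both 3 (by decide)
theorem m1 : 1 ∈ charDegrees Cfsg.Spor.He ∧ 1 ∈ charDegrees (MulAut Cfsg.Spor.He) := exists_both 4 (by decide)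

theorem m20825 : 20825 ∈ charDegrees Cfsg.Spor.He := H825.SB.He.exists_20825
theorem m17493 : 17493 ∈ charDegrees Cfsg.Spor.He := HeDeg.exists_17493

/-- the known degrees -/
def L0 : List ℕ := [1, 51, 680, 1275, 1920, 4352, 17493, 20825]

theorem lst0 : Lst L0 :=
  (((((((Lst.nil.cons' m20825 (by decide)).cons' m17493 (by decide)).cons' m4352.1 (by decide)).cons' m1920.1
    (by decide)).cons' m1275.1 (by decide)).cons' m680.1 (by decide)).cons' m51 (by decide)).cons' m1.1 (by decide)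

/-- the first list of candidates -/
def A0 : List ℕ := [
  1, 42, 50, 51, 60, 68, 84, 85, 102, 119, 120, 128, 135, 136, 144, 153, 170, 196, 204, 238, 255, 256, 272,
  280, 288, 306, 315, 340, 357, 392, 400, 408, 425, 441, 450, 459, 476, 510, 544, 560, 595, 612, 630, 672, 680,
  714, 756, 765, 800, 816, 833, 850, 900, 918, 952, 960, 1020, 1029, 1071, 1080, 1088, 1190, 1224, 1225, 1275,
  1344, 1360, 1428, 1470, 1512, 1530, 1632, 1666, 1700, 1785, 1836, 1904, 1920, 2040, 2058, 2100, 2142, 2160,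
  2176, 2295, 2304, 2380, 2448, 2499, 2550, 2720, 2856, 2940, 2975, 3060, 3136, 3213, 3264, 3332, 3400, 3528,
  3570, 3672, 3808, 3825, 4080, 4165, 4200, 4284, 4352, 4480, 4590, 4608, 4725, 4760, 4896, 4998, 5040, 5100,
  5355, 5440, 5712, 5831, 5950, 6120, 6272, 6400, 6426, 6528, 6664, 6800, 6860, 7056, 7140, 7200, 7344, 7497,
  7616, 7650, 8160, 8330, 8568, 8704, 8925, 8960, 9180, 9520, 9792, 9800, 9996, 10080, 10200, 10710, 10752,
  10880, 11025, 11424, 11475, 11662, 11900, 12096, 12240, 12495, 12800, 12852, 13056, 13328, 13600, 13720,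
  14280, 14400, 14688, 14994, 15232, 15300, 15360, 15435, 16065, 16320, 16464, 16660, 17136, 17280, 17408,
  17493, 17850, 18360, 18522, 19040, 19584, 19600, 19992, 20400, 20825, 21420, 21504, 21760, 22050, 22491,
  22848, 22950, 23324, 23520, 23800, 24192, 24480, 24990, 25704, 26112, 26460, 26656, 26775, 27200, 28560,
  29155, 29376, 29988, 30464, 30600, 32130, 32640, 32928, 33320, 33600, 34272, 34560, 34986, 35700, 36720,
  37044, 37485, 37800, 38080, 39168, 39984, 40800, 41650, 42840, 43520, 44982, 45696, 45900, 46648, 47040,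
  47600, 48960, 49980, 50176, 51408, 51450, 52224, 52479, 52920, 53312, 53550, 54400, 56448, 57120]

theorem chk0 : chk1 3265984595 L0 A0 = true := by decide +kernel

theorem mem0 (χ : IrrCharacter Cfsg.Spor.He) : deg χ ∈ A0 := mem_of_chk lst0 (by decide) chk0 χ

/-! ### The two characters of the generalized character of norm two -/

theorem pairs : (A0.all fun a =>
    (!(Nat.beq (a % 17) 16 && A0.contains (43008 - a) && Nat.beq ((43008 - a) % 17) 16) || Nat.ble 43008 a ||
      Nat.beq a 21504 || Nat.beq a 32928 || Nat.beq a 10080) &&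
    (!(Nat.beq (a % 17) 1 && A0.contains (a + 43008) && Nat.beq ((a + 43008) % 17) 16))) = true := by decide +kernel

/-- the two cases -/
theorem two_cases : (Lst (21504 :: 21504 :: L0) ∧ 21504 ∈ charDegrees Cfsg.Spor.He) ∨
    (Lst (32928 :: 10080 :: L0) ∧ 32928 ∈ charDegrees Cfsg.Spor.He ∧ 10080 ∈ charDegrees Cfsg.Spor.He) := by
  obtain ⟨χ, ψ, hne, h⟩ := HeDeg.exists_two
  have h1 := List.all_eq_true.1 pairs
  rcases h with ⟨ha, hb, hab⟩ | ⟨ha, hb, hab⟩
  · have h2 := h1 _ (mem0 χ)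
    have hpos : 0 < deg ψ := H424.DegTools.pos_of_mem (G := Cfsg.Spor.He) ⟨ψ, rfl⟩
    have e1 : 43008 - deg χ = deg ψ := by omega
    rw [Bool.and_eq_true, e1, ha, hb, List.contains_iff_mem.2 (mem0 ψ)] at h2
    have h3 := h2.1
    simp only [Bool.or_eq_true, Nat.beq_eq, Nat.ble_eq] at h3
    have h4 : deg χ = 21504 ∨ deg χ = 32928 ∨ deg χ = 10080 := by
      rcases h3 with (((h3 | h3) | h3) | h3) | h3
      · exact absurd h3 (by decide)
      · omega
      · exact Or.inl h3
      · exact Or.inr (Or.inl h3)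
      · exact Or.inr (Or.inr h3)
    rcases h4 with h4 | h4 | h4
    · have h5 : deg ψ = 21504 := by omega
      left
      have h6 := lst0.cons2 hne (by rw [h4]; decide) (by rw [h5]; decide)
      rw [h4, h5] at h6
      exact ⟨h6, ⟨χ, h4⟩⟩
    · have h5 : deg ψ = 10080 := by omega
      right
      have h6 := lst0.cons2 hne (by rw [h4]; decide) (by rw [h5]; decide)
      rw [h4, h5] at h6
      exact ⟨h6, ⟨χ, h4⟩, ⟨ψ, h5⟩⟩
    · have h5 : deg ψ = 32928 := by omega
      right
      have h6 := lst0.cons2 hne.symm (by rw [h5]; decide) (by rw [h4]; decide)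
      rw [h4, h5] at h6
      exact ⟨h6, ⟨ψ, h5⟩, ⟨χ, h4⟩⟩
  · exfalso
    have h2 := h1 _ (mem0 ψ)
    rw [Bool.and_eq_true, ← hab, ha, hb, List.contains_iff_mem.2 (mem0 χ)] at h2
    exact absurd h2.2 (by decide)

/-! ### The lists -/

/-- the candidates in the first case -/
def AA : List ℕ := [
  1, 42, 50, 51, 60, 68, 84, 85, 102, 119, 120, 128, 135, 136, 144, 153, 170, 196, 204, 238, 255, 256, 272,
  280, 288, 306, 315, 340, 357, 392, 400, 408, 425, 441, 450, 459, 476, 510, 544, 560, 595, 612, 630, 672, 680,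
  714, 756, 765, 800, 816, 833, 850, 900, 918, 952, 960, 1020, 1029, 1071, 1080, 1088, 1190, 1224, 1225, 1275,
  1344, 1360, 1428, 1470, 1512, 1530, 1632, 1666, 1700, 1785, 1836, 1904, 1920, 2040, 2058, 2100, 2142, 2160,
  2176, 2295, 2304, 2380, 2448, 2499, 2550, 2720, 2856, 2940, 2975, 3060, 3136, 3213, 3264, 3332, 3400, 3528,
  3570, 3672, 3808, 3825, 4080, 4165, 4200, 4284, 4352, 4480, 4590, 4608, 4725, 4760, 4896, 4998, 5040, 5100,
  5355, 5440, 5712, 5831, 5950, 6120, 6272, 6400, 6426, 6528, 6664, 6800, 6860, 7056, 7140, 7200, 7344, 7497,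
  7616, 7650, 8160, 8330, 8568, 8704, 8925, 8960, 9180, 9520, 9792, 9800, 9996, 10080, 10200, 10710, 10752,
  10880, 11025, 11424, 11475, 11662, 11900, 12096, 12240, 12495, 12800, 12852, 13056, 13328, 13600, 13720,
  14280, 14400, 14688, 14994, 15232, 15300, 15360, 15435, 16065, 16320, 16464, 16660, 17136, 17280, 17408,
  17493, 17850, 18360, 18522, 19040, 19584, 19600, 19992, 20400, 20825, 21420, 21504, 21760, 22050, 22491,
  22848, 22950, 23324, 23520, 23800, 24192, 24480, 24990, 25704, 26112, 26460, 26656, 26775, 27200, 28560,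
  29155, 29376, 29988, 30464, 30600, 32130, 32640, 32928, 33320, 33600, 34272, 34560, 34986, 35700, 36720,
  37044, 37485, 37800, 38080, 39168, 39984, 40800, 41650, 42840, 43520, 44982, 45696, 45900, 46648, 47040, 47600]

/-- the candidates for `He.2` in the first case -/
def AA2 : List ℕ := [
  1, 42, 50, 51, 60, 68, 84, 85, 100, 102, 119, 120, 128, 135, 136, 144, 153, 168, 170, 196, 204, 238, 240,
  255, 256, 270, 272, 280, 288, 306, 315, 340, 357, 392, 400, 408, 425, 441, 450, 459, 476, 510, 512, 544, 560,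
  576, 595, 612, 630, 672, 680, 714, 756, 765, 784, 800, 816, 833, 850, 882, 900, 918, 952, 960, 1020, 1029,
  1071, 1080, 1088, 1120, 1190, 1224, 1225, 1260, 1275, 1344, 1360, 1428, 1470, 1512, 1530, 1600, 1632, 1666,
  1700, 1785, 1800, 1836, 1904, 1920, 2040, 2058, 2100, 2142, 2160, 2176, 2295, 2304, 2380, 2448, 2450, 2499,
  2550, 2688, 2720, 2856, 2940, 2975, 3024, 3060, 3136, 3213, 3264, 3332, 3400, 3528, 3570, 3672, 3808, 3825,
  3840, 4080, 4116, 4165, 4200, 4284, 4320, 4352, 4480, 4590, 4608, 4725, 4760, 4896, 4998, 5040, 5100, 5355,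
  5440, 5712, 5831, 5880, 5950, 6120, 6272, 6400, 6426, 6528, 6664, 6800, 6860, 7056, 7140, 7200, 7344, 7497,
  7616, 7650, 8160, 8330, 8400, 8568, 8704, 8925, 8960, 9180, 9216, 9450, 9520, 9792, 9800, 9996, 10080, 10200,
  10710, 10752, 10880, 11025, 11424, 11475, 11662, 11900, 12096, 12240, 12495, 12544, 12800, 12852, 13056,
  13328, 13600, 13720, 14112, 14280, 14400, 14688, 14994, 15232, 15300, 15360, 15435, 16065, 16320, 16464,
  16660, 17136, 17280, 17408, 17493, 17850, 17920, 18360, 18522, 19040, 19584, 19600, 19992, 20160, 20400,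
  20825, 21420, 21504, 21760, 22050, 22491, 22848, 22950, 23324, 23520, 23800, 24192, 24480, 24990, 25600,
  25704, 26112, 26460, 26656, 26775, 27200, 27440, 28560, 28800, 29155, 29376, 29988, 30464, 30600, 30720,
  30870, 32130, 32640, 32928, 33320, 33600, 34272, 34560, 34816, 34986, 35700, 36720, 37044, 37485, 37800,
  38080, 39168, 39200, 39984, 40800, 41650, 42840, 43008, 43520, 44100, 44982, 45696, 45900, 46648, 47040,
  47600, 48384, 48960, 49980, 51408, 52224, 52920, 53312, 53550, 54400, 57120, 58310, 58752, 59976, 60928,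
  61200, 64260, 65280, 65856, 66640, 67200]

/-- the candidates in the second case -/
def AB : List ℕ := [
  1, 42, 50, 51, 60, 68, 84, 85, 102, 119, 120, 128, 135, 136, 144, 153, 170, 196, 204, 238, 255, 256, 272,
  280, 288, 306, 315, 340, 357, 392, 400, 408, 425, 441, 450, 459, 476, 510, 544, 560, 595, 612, 630, 672, 680,
  714, 756, 765, 800, 816, 833, 850, 900, 918, 952, 960, 1020, 1029, 1071, 1080, 1088, 1190, 1224, 1225, 1275,
  1344, 1360, 1428, 1470, 1512, 1530, 1632, 1666, 1700, 1785, 1836, 1904, 1920, 2040, 2058, 2100, 2142, 2160,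
  2176, 2295, 2304, 2380, 2448, 2499, 2550, 2720, 2856, 2940, 2975, 3060, 3136, 3213, 3264, 3332, 3400, 3528,
  3570, 3672, 3808, 3825, 4080, 4165, 4200, 4284, 4352, 4480, 4590, 4608, 4725, 4760, 4896, 4998, 5040, 5100,
  5355, 5440, 5712, 5831, 5950, 6120, 6272, 6400, 6426, 6528, 6664, 6800, 6860, 7056, 7140, 7200, 7344, 7497,
  7616, 7650, 8160, 8330, 8568, 8704, 8925, 8960, 9180, 9520, 9792, 9800, 9996, 10080, 10200, 10710, 10752,
  10880, 11025, 11424, 11475, 11662, 11900, 12096, 12240, 12495, 12800, 12852, 13056, 13328, 13600, 13720,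
  14280, 14400, 14688, 14994, 15232, 15300, 15360, 15435, 16065, 16320, 16464, 16660, 17136, 17280, 17408,
  17493, 17850, 18360, 18522, 19040, 19584, 19600, 19992, 20400, 20825, 21420, 21504, 21760, 22050, 22491,
  22848, 22950, 23324, 23520, 23800, 24192, 24480, 24990, 25704, 26112, 26460, 26656, 26775, 27200, 28560,
  29155, 29376, 29988, 30464, 30600, 32130, 32640, 32928, 33320, 33600, 34272, 34560, 34986, 35700, 36720,
  37044, 37485, 37800, 38080, 39168, 39984, 40800, 41650, 42840, 43520, 44982]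

/-- the candidates for `He.2` in the second case -/
def AB2 : List ℕ := [
  1, 42, 50, 51, 60, 68, 84, 85, 100, 102, 119, 120, 128, 135, 136, 144, 153, 168, 170, 196, 204, 238, 240,
  255, 256, 270, 272, 280, 288, 306, 315, 340, 357, 392, 400, 408, 425, 441, 450, 459, 476, 510, 512, 544, 560,
  576, 595, 612, 630, 672, 680, 714, 756, 765, 784, 800, 816, 833, 850, 882, 900, 918, 952, 960, 1020, 1029,
  1071, 1080, 1088, 1120, 1190, 1224, 1225, 1260, 1275, 1344, 1360, 1428, 1470, 1512, 1530, 1600, 1632, 1666,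
  1700, 1785, 1800, 1836, 1904, 1920, 2040, 2058, 2100, 2142, 2160, 2176, 2295, 2304, 2380, 2448, 2450, 2499,
  2550, 2688, 2720, 2856, 2940, 2975, 3024, 3060, 3136, 3213, 3264, 3332, 3400, 3528, 3570, 3672, 3808, 3825,
  3840, 4080, 4116, 4165, 4200, 4284, 4320, 4352, 4480, 4590, 4608, 4725, 4760, 4896, 4998, 5040, 5100, 5355,
  5440, 5712, 5831, 5880, 5950, 6120, 6272, 6400, 6426, 6528, 6664, 6800, 6860, 7056, 7140, 7200, 7344, 7497,
  7616, 7650, 8160, 8330, 8400, 8568, 8704, 8925, 8960, 9180, 9216, 9450, 9520, 9792, 9800, 9996, 10080, 10200,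
  10710, 10752, 10880, 11025, 11424, 11475, 11662, 11900, 12096, 12240, 12495, 12544, 12800, 12852, 13056,
  13328, 13600, 13720, 14112, 14280, 14400, 14688, 14994, 15232, 15300, 15360, 15435, 16065, 16320, 16464,
  16660, 17136, 17280, 17408, 17493, 17850, 17920, 18360, 18522, 19040, 19584, 19600, 19992, 20160, 20400,
  20825, 21420, 21504, 21760, 22050, 22491, 22848, 22950, 23324, 23520, 23800, 24192, 24480, 24990, 25600,
  25704, 26112, 26460, 26656, 26775, 27200, 27440, 28560, 28800, 29155, 29376, 29988, 30464, 30600, 30720,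
  30870, 32130, 32640, 32928, 33320, 33600, 34272, 34560, 34816, 34986, 35700, 36720, 37044, 37485, 37800,
  38080, 39168, 39200, 39984, 40800, 41650, 42840, 43008, 43520, 44100, 44982, 45696, 45900, 46648, 47040,
  47600, 48384, 48960, 49980, 51408, 52224, 52920, 53312, 53550, 54400, 57120, 58310, 58752, 59976, 60928,
  61200, 64260, 65856]

theorem chkA : chk1 2341140563 (21504 :: 21504 :: L0) AA = true := by decide +kernel
theorem chkB : chk1 2080125011 (32928 :: 10080 :: L0) AB = true := by decide +kernel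

/-- `A ⊆ A2`, and `A2` contains `2 d` for `d` in `A`, `1 < d`, `d` in `L` or `2 d ^ 2 ≤ R` -/
def chk2 (R : ℕ) (L A A2 : List ℕ) : Bool :=
  A.all fun d => A2.contains d && (Nat.ble d 1 || !(L.contains d || Nat.ble (2 * (d * d)) R) || A2.contains (2 * d))

theorem chkA2 : chk2 2341140563 (21504 :: 21504 :: L0) AA AA2 = true := by decide +kernel
theorem chkB2 : chk2 2080125011 (32928 :: 10080 :: L0) AB AB2 = true := by decide +kernel

theorem mem_two {R : ℕ} {L A A2 : List ℕ} (hL : Lst L) (hR : sq L + R = NN) (hc : chk1 R L A = true)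
    (hc2 : chk2 R L A A2 = true) {d : ℕ}
    (hd : d ∈ charDegrees Cfsg.Spor.He ∨ d ∈ charDegrees (MulAut Cfsg.Spor.He)) : d ∈ A2 := by
  have h1 := List.all_eq_true.1 hc2
  have key : ∀ d ∈ charDegrees Cfsg.Spor.He, d ∈ A2 := by
    rintro d ⟨χ, rfl⟩
    have h2 := h1 _ (mem_of_chk hL hR hc χ)
    rw [Bool.and_eq_true] at h2
    exact List.contains_iff_mem.1 h2.1
  rcases hd with hd | hd
  · exact key d hd
  · rcases Two.down center index_Inn hd with h | ⟨χ, χ', f, h3, h4, h5, rfl⟩
    · exact key d h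
    · have h6 : deg χ = f := h4
      have h7 : deg χ' = f := h5
      have h2 := h1 _ (mem_of_chk hL hR hc χ)
      rw [h6, Bool.and_eq_true, Bool.or_eq_true, Bool.or_eq_true] at h2
      rcases h2.2 with (h8 | h8) | h8
      · exfalso
        have h9 : 0 < f := H424.DegTools.pos_of_mem (G := Cfsg.Spor.He) ⟨χ, h4⟩
        have h10 := Nat.le_of_ble_eq_true h8
        obtain rfl : f = 1 := by omega
        have := simple
        have := finite_irr (G := Cfsg.Spor.He)
        have := Fintype.ofFinite (IrrCharacter Cfsg.Spor.He)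
        have hnp : ¬ (Nat.card Cfsg.Spor.He).Prime := by
          rw [card]
          exact fun h => absurd (h.eq_one_or_self_of_dvd 2 (by norm_num)) (by norm_num)
        apply h3
        apply Subtype.ext
        rw [one_of_deg hnp χ h4, one_of_deg hnp χ' h5]
      · exfalso
        rw [Bool.not_eq_true', Bool.or_eq_false_iff] at h8
        rcases hL.bound2 h3 (h6.trans h7.symm) with h9 | h9
        · rw [h6] at h9
          rw [List.contains_iff_mem.2 h9] at h8
          exact absurd h8.1 (by simp)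
        · rw [h6] at h9
          have h10 : Nat.ble (2 * (f * f)) R = true := Nat.ble_eq_true_of_le (by omega)
          rw [h10] at h8
          exact absurd h8.2 (by simp)
      · exact List.contains_iff_mem.1 h8

/-! ### SOLV -/

/-- the primes -/
def PP : List ℕ := [2, 3, 5, 7, 17]

theorem prime_PP : ∀ p ∈ PP, p.Prime := by
  intro p hp
  simp only [PP, List.mem_cons, List.not_mem_nil, or_false] at hp
  rcases hp with rfl | rfl | rfl | rfl | rfl <;> norm_num

/-- the known degrees in the first case -/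
def KA : List (List ℕ) := [[680], [1275], [1920], [4352], [20825, 41650], [17493, 34986], [21504, 43008]]

/-- the known degrees in the second case -/
def KB : List (List ℕ) := [[680], [1275], [1920], [4352], [20825, 41650], [17493, 34986], [32928, 65856], [10080, 20160]]

theorem solvA : H497.S8.chk2 67200 PP AA2 KA = true := by decide +kernel
theorem solvB : H497.S8.chk2 65856 PP AB2 KB = true := by decide +kernel

theorem up {f : ℕ} (hf : f ∈ charDegrees Cfsg.Spor.He) {D : Set ℕ} (hD : H704.S8.Deg 2 Cfsg.Spor.He D) :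
    ∃ n ∈ [f, 2 * f], n ∈ D := by
  rcases hD with rfl | ⟨-, rfl⟩
  · exact ⟨f, List.mem_cons_self, hf⟩
  · rcases Two.up center index_Inn hf with h | h
    · exact ⟨f, List.mem_cons_self, h⟩
    · exact ⟨2 * f, by simp, h⟩

theorem both {f : ℕ} (hf : f ∈ charDegrees Cfsg.Spor.He ∧ f ∈ charDegrees (MulAut Cfsg.Spor.He)) {D : Set ℕ}
    (hD : H704.S8.Deg 2 Cfsg.Spor.He D) : ∃ n ∈ [f], n ∈ D := by
  rcases hD with rfl | ⟨-, rfl⟩
  · exact ⟨f, List.mem_cons_self, hf.1⟩
  · exact ⟨f, List.mem_cons_self, hf.2⟩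

theorem mem_or {D : Set ℕ} (hD : H704.S8.Deg 2 Cfsg.Spor.He D) {d : ℕ} (hd : d ∈ D) :
    d ∈ charDegrees Cfsg.Spor.He ∨ d ∈ charDegrees (MulAut Cfsg.Spor.He) := by
  rcases hD with rfl | ⟨-, rfl⟩
  · exact Or.inl hd
  · exact Or.inr hd

theorem six_mem {D : Set ℕ} (hD : H704.S8.Deg 2 Cfsg.Spor.He D) {K : List (List ℕ)}
    (hK : ∀ l ∈ K, ∃ n ∈ l, n ∈ D) :
    ∀ l ∈ [680] :: [1275] :: [1920] :: [4352] :: [20825, 41650] :: [17493, 34986] :: K, ∃ n ∈ l, n ∈ D := by
  intro l hl
  simp only [List.mem_cons] at hl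
  rcases hl with rfl | rfl | rfl | rfl | rfl | rfl | hl
  · exact both m680 hD
  · exact both m1275 hD
  · exact both m1920 hD
  · exact both m4352 hD
  · exact up m20825 hD
  · exact up m17493 hD
  · exact hK l hl

/-- the two supersets with the known degrees -/
theorem cases {D : Set ℕ} (hD : H704.S8.Deg 2 Cfsg.Spor.He D) :
    ((∀ d ∈ D, d ∈ AA2) ∧ ∀ l ∈ KA, ∃ n ∈ l, n ∈ D) ∨ ((∀ d ∈ D, d ∈ AB2) ∧ ∀ l ∈ KB, ∃ n ∈ l, n ∈ D) := by
  rcases two_cases with ⟨h1, h2⟩ | ⟨h1, h2, h3⟩
  · left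
    refine ⟨fun d hd => mem_two h1 (by decide) chkA chkA2 (mem_or hD hd), six_mem hD ?_⟩
    intro l hl
    rw [List.mem_singleton] at hl
    subst hl
    exact up h2 hD
  · right
    refine ⟨fun d hd => mem_two h1 (by decide) chkB chkB2 (mem_or hD hd), six_mem hD ?_⟩
    intro l hl
    simp only [List.mem_cons, List.not_mem_nil, or_false] at hl
    rcases hl with rfl | rfl
    · exact up h2 hD
    · exact up h3 hD

theorem solv_he {D : Set ℕ} (hD : H704.S8.Deg 2 Cfsg.Spor.He D) : H704.S8.Solv.{u} D := by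
  rcases cases hD with ⟨h1, h2⟩ | ⟨h1, h2⟩
  · exact H497.S8.solv_of_chk2 67200 PP AA2 KA prime_PP h1 h2 solvA
  · exact H497.S8.solv_of_chk2 65856 PP AB2 KB prime_PP h1 h2 solvB

/-- the degree set of an isomorphic copy -/
theorem deg_model {X : Type v} [Group X] (hX : Spor.IsoHe X) {D : Set ℕ} (hD : H704.S8.Deg 2 X D) :
    H704.S8.Deg 2 Spor.He D := by
  obtain ⟨e⟩ := hX
  rcases hD with rfl | ⟨-, rfl⟩
  · exact Or.inl (H424.DegTools.charDegrees_congr e)
  · exact Or.inr ⟨rfl, H424.DegTools.charDegrees_congr (MulAut.congr e)⟩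

/-- **SOLV** for the Held group -/
theorem solv {X : Type v} [Group X] (hX : Spor.IsoHe X) (D : Set ℕ) (hD : H704.S8.Deg 2 X D) : H704.S8.Solv.{u} D :=
  solv_he (deg_model hX hD)

end Cfsg.Agent.H393.S8.He
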