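import Cfsg.Agent.H424.DegTools
import Cfsg.Agent.H348.PPD.Dich
import Cfsg.Agent.Blocks.Basic
import Cfsg.Agent.Characters.Clifford

/-!
# Degrees above a subgroup of index two, degrees of `Aut S` for `|Out S| = 2` (helper393)
-/

set_option autoImplicit false
set_option linter.unusedSectionVars false

open Cfsg Subgroup

namespace Cfsg.Agent.H393.S8.Two

open Cfsg.Agent.Characters.Core Cfsg.Agent.Characters.Clifford

universe u

section

variable {G : Type u} [Group G] [Finite G]

/-- degrees over a normal subgroup of index two (after helper109) -/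
theorem deg_index_two (N : Subgroup G) [N.Normal] (h2 : N.index = 2) {e : ℕ} (he : e ∈ charDegrees G) :
    e ∈ charDegrees N ∨ ∃ (χ χ' : IrrCharacter N) (f : ℕ), χ ≠ χ' ∧ (χ : N → ℂ) 1 = f ∧ (χ' : N → ℂ) 1 = f ∧
      e = 2 * f := by
  classical
  have := Fintype.ofFinite G
  have := Fintype.ofFinite N
  have := finite_irr (G := N)
  have := Fintype.ofFinite (IrrCharacter N)
  obtain ⟨ψ, hψ, h1⟩ := H424.DegTools.mem_charDegrees.1 he
  have hψN := isCharacter_restrict N (isIrr_isCharacter hψ)
  rcases Cfsg.Agent.CharactersDeep.PrimeIndex.norm_restrict_prime_index N Nat.prime_two h2 hψ with h | h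
  · left
    exact H424.DegTools.mem_charDegrees.2 ⟨_, isIrr_of_classInner_self hψN h, h1⟩
  · right
    obtain ⟨m, hm⟩ := exists_nat_comb hψN
    have hcoef : ∀ η : IrrCharacter N, classInner (fun n : N => ψ n) (η : N → ℂ) = m η := fun η => by
      rw [hm, classInner_sum_nsmul_irr]
    have hsq : ∑ η : IrrCharacter N, m η ^ 2 = 2 := by
      have h1 := classInner_sum_smul_sum_smul (G := N) (fun η => (m η : ℂ)) (fun η => (m η : ℂ))
      simp only [Nat.cast_smul_eq_nsmul] at h1
      rw [← hm, h] at h1
      have h3 : ((∑ η : IrrCharacter N, m η ^ 2 : ℕ) : ℂ) = ((2 : ℕ) : ℂ) := by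
        rw [h1]
        push_cast
        refine Finset.sum_congr rfl fun η _ => ?_
        rw [Complex.conj_natCast, sq]
      exact_mod_cast h3
    -- the multiplicities are at most one
    have hle : ∀ η, m η ≤ 1 := by
      intro η
      have h3 : m η ^ 2 ≤ ∑ η : IrrCharacter N, m η ^ 2 :=
        Finset.single_le_sum (f := fun η => m η ^ 2) (fun _ _ => Nat.zero_le _) (Finset.mem_univ η)
      rw [hsq] at h3
      by_contra hcon
      have h4 : 2 ^ 2 ≤ m η ^ 2 := Nat.pow_le_pow_left (by omega) 2
      omega
    have hsum : ∑ η : IrrCharacter N, m η = 2 := by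
      rw [← hsq]
      refine Finset.sum_congr rfl fun η _ => ?_
      have h3 := hle η
      interval_cases m η <;> rfl
    have hcard : (Finset.univ.filter fun η : IrrCharacter N => m η = 1).card = 2 := by
      rw [← hsum, Finset.card_filter]
      refine Finset.sum_congr rfl fun η _ => ?_
      have h3 := hle η
      interval_cases m η <;> simp
    obtain ⟨a, b, hab, hs⟩ := Finset.card_eq_two.1 hcard
    have ha : m a = 1 := by
      have : a ∈ Finset.univ.filter fun η : IrrCharacter N => m η = 1 := by rw [hs]; simp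
      simpa using this
    have hb : m b = 1 := by
      have : b ∈ Finset.univ.filter fun η : IrrCharacter N => m η = 1 := by rw [hs]; simp
      simpa using this
    have ha0 : classInner (fun n : N => ψ n) (a : N → ℂ) ≠ 0 := by rw [hcoef, ha]; simp
    have hb0 : classInner (fun n : N => ψ n) (b : N → ℂ) ≠ 0 := by rw [hcoef, hb]; simp
    obtain ⟨x, hx⟩ := exists_conj_of_constituents N hψ a.2 b.2 ha0 hb0
    obtain ⟨f, -, hf⟩ := isIrr_apply_one a.2
    have hbf : (b : N → ℂ) 1 = f := by
      rw [hx]
      simpa using hf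
    refine ⟨a, b, f, hab, hf, hbf, ?_⟩
    have h3 : (fun n : N => ψ n) = (a : N → ℂ) + (b : N → ℂ) := by
      rw [hm]
      rw [← Finset.sum_subset (Finset.subset_univ ({a, b} : Finset (IrrCharacter N)))]
      · rw [Finset.sum_pair hab, ha, hb, one_smul, one_smul]
      · intro η _ hη
        have h4 : m η ≠ 1 := by
          intro h5
          apply hη
          rw [← hs]
          simpa using h5
        have h5 : m η = 0 := by
          have := hle η
          omega
        rw [h5, zero_smul]
    have h4 := congrFun h3 1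
    simp only [OneMemClass.coe_one, Pi.add_apply, h1, hf, hbf] at h4
    have h5 : (e : ℂ) = ((2 * f : ℕ) : ℂ) := by
      rw [h4]
      push_cast
      ring
    exact_mod_cast h5

/-- degrees of a group above those of a normal subgroup of index two -/
theorem up_two (N : Subgroup G) [N.Normal] (h2 : N.index = 2) {f : ℕ} (hf : f ∈ charDegrees N) :
    f ∈ charDegrees G ∨ 2 * f ∈ charDegrees G := by
  obtain ⟨d, hd, ⟨k, hk⟩, h3⟩ := H424.DegTools.clifford_up N hf
  have hf0 := H424.DegTools.pos_of_mem hf
  rw [hk, Nat.mul_div_cancel_left _ hf0, h2] at h3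
  have hk2 : k ≤ 2 := Nat.le_of_dvd (by norm_num) h3
  have hd0 := H424.DegTools.pos_of_mem hd
  have hk0 : k ≠ 0 := by
    rintro rfl
    omega
  have : k = 1 ∨ k = 2 := by omega
  rcases this with rfl | rfl
  · left
    rwa [hk, mul_one] at hd
  · right
    rwa [hk, mul_comm] at hd

end

section

variable {S : Type u} [Group S] [Finite S]

instance conj_normal : ((MulAut.conj : S →* MulAut S).range).Normal := by
  constructor
  rintro _ ⟨x, rfl⟩ g
  exact ⟨g x, by ext y; simp [MulAut.conj_apply]⟩

/-- the isomorphism with the inner automorphisms -/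
noncomputable def E (hc : Subgroup.center S = ⊥) : S ≃* (MulAut.conj : S →* MulAut S).range :=
  MonoidHom.ofInjective (f := MulAut.conj) (by
    rw [injective_iff_map_eq_one]
    intro a ha
    rw [← Subgroup.mem_bot, ← hc, Subgroup.mem_center_iff]
    intro y
    have h1 : MulAut.conj a y = y := by rw [ha]; rfl
    rw [MulAut.conj_apply, mul_inv_eq_iff_eq_mul] at h1
    exact h1.symm)

theorem center_bot [IsSimpleGroup S] (hS : ¬ IsMulCommutative S) : Subgroup.center S = ⊥ := by
  rcases (inferInstance : (Subgroup.center S).Normal).eq_bot_or_eq_top with h | h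
  · exact h
  · exfalso
    refine hS ⟨⟨fun a b => ?_⟩⟩
    have : b ∈ Subgroup.center S := by rw [h]; trivial
    exact Subgroup.mem_center_iff.1 this a

/-- a degree of `S.2` -/
theorem down (hc : Subgroup.center S = ⊥) (h2 : (MulAut.conj : S →* MulAut S).range.index = 2) {d : ℕ}
    (hd : d ∈ charDegrees (MulAut S)) : d ∈ charDegrees S ∨
    ∃ (χ χ' : IrrCharacter S) (f : ℕ), χ ≠ χ' ∧ charDegree (χ : S → ℂ) = f ∧ charDegree (χ' : S → ℂ) = f ∧
      d = 2 * f := by
  rcases deg_index_two _ h2 hd with h | ⟨χ, χ', f, h3, h4, h5, h6⟩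
  · left
    rwa [H424.DegTools.charDegrees_congr (E hc)]
  · right
    refine ⟨⟨_, isIrr_comp (E hc).toMonoidHom (E hc).surjective χ.2⟩,
      ⟨_, isIrr_comp (E hc).toMonoidHom (E hc).surjective χ'.2⟩, f, ?_, ?_, ?_, h6⟩
    · intro h7
      apply h3
      apply Subtype.ext
      have h8 := congrArg Subtype.val h7
      funext y
      have h9 := congrFun h8 ((E hc).symm y)
      simpa using h9
    · apply Blocks.Basic.charDegree_of_eq
      simpa using h4
    · apply Blocks.Basic.charDegree_of_eq
      simpa using h5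

theorem up (hc : Subgroup.center S = ⊥) (h2 : (MulAut.conj : S →* MulAut S).range.index = 2) {f : ℕ}
    (hf : f ∈ charDegrees S) : f ∈ charDegrees (MulAut S) ∨ 2 * f ∈ charDegrees (MulAut S) := by
  rw [H424.DegTools.charDegrees_congr (E hc)] at hf
  exact up_two _ h2 hf

end

end Cfsg.Agent.H393.S8.Two
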